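import Groth.Prelude.Def_Coh
import Groth.Prelude.Def_Frob
import Groth.Prelude.Def_FlatMod2
import Groth.Prelude.Def_ClSub2
import Groth.Agent.Lib.DblCovInv.Scheme
import Groth.Agent.Lib.ZarCoh.Morph
import Groth.Agent.Lib.Curves.LES
import Groth.Agent.Lib.TensorMod.QCohInv

/-!
Bijectivity of Frobenius on cohomology descends along double covers in odd characteristic.
-/

set_option autoImplicit false

universe u

open CategoryTheory CategoryTheory.Limits AlgebraicGeometry Opposite TopologicalSpace Abelian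

namespace Groth.Agent.Lib.FrobCover.Double

open Groth.Agent.Lib

section SES

variable {X : Scheme.{u}} {S : ShortComplex (Sheaf (Opens.grothendieckTopology X) AddCommGrpCat.{u})}

theorem map_bijective_of_subsingleton (hS : S.ShortExact) (h : ∀ n, Subsingleton (Sheaf.H S.X₃ n))
    (n : ℕ) : Function.Bijective (Sheaf.H.map S.f n) := by
  refine ⟨?_, fun y => ?_⟩
  · cases n with
    | zero =>
      haveI := hS.mono_f
      exact Ext.postcomp_mk₀_injective_of_mono (Curves.LES.cst X) S.f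
    | succ n =>
      rw [injective_iff_map_eq_zero]
      intro x hx
      obtain ⟨z, hz⟩ := (Curves.LES.postcomp_exact₁ (Curves.LES.cst X) hS n (n + 1) rfl x).mp hx
      rw [← hz, show z = 0 from (h n).elim _ _, map_zero]
  · exact (Curves.LES.postcomp_exact₂ (Curves.LES.cst X) hS n y).mp ((h n).elim _ _)

theorem subsingleton_of_map_bijective (hS : S.ShortExact)
    (h : ∀ n, Function.Bijective (Sheaf.H.map S.f n)) (n : ℕ) : Subsingleton (Sheaf.H S.X₃ n) := by
  refine subsingleton_of_forall_eq 0 fun x => ?_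
  have h1 : hS.extClass.postcomp (Curves.LES.cst X) (rfl : n + 1 = n + 1) x = 0 := by
    have h0 := (Curves.LES.postcomp_exact₁ (Curves.LES.cst X) hS n (n + 1) rfl
      (hS.extClass.postcomp (Curves.LES.cst X) rfl x)).mpr ⟨x, rfl⟩
    exact (h (n + 1)).1 (h0.trans (map_zero _).symm)
  obtain ⟨y, hy⟩ := (Curves.LES.postcomp_exact₃ (Curves.LES.cst X) hS n (n + 1) rfl x).mp h1
  obtain ⟨z, hz⟩ := (h n).2 y
  rw [← hy, ← hz]
  exact (Curves.LES.postcomp_exact₂ (Curves.LES.cst X) hS n _).mpr ⟨z, rfl⟩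

end SES

/-- The sheaf sequence of the Frobenius. -/
noncomputable abbrev seq (X : Scheme.{u}) (p : ℕ) [Fact p.Prime] [FrobSch.IsCharP X p] :
    ShortComplex X.Modules :=
  ShortComplex.mk (ClSub.unitToPush (FrobSch.frob X p)) (cokernel.π _) (cokernel.condition _)

theorem mono_unit (X : Scheme.{u}) (p : ℕ) [Fact p.Prime] [FrobSch.IsCharP X p] [IsReduced X] :
    Mono (ClSub.unitToPush (FrobSch.frob X p)) := by
  haveI : (Curves.LES.F X).Faithful :=
    inferInstanceAs (SheafOfModules.toSheaf.{u} X.ringCatSheaf).Faithful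
  apply (Curves.LES.F X).mono_of_mono_map
  refine (Sheaf.Hom.mono_iff_presheaf_mono _ _ _).mpr ?_
  refine @NatTrans.mono_of_mono_app _ _ _ _ _ _ _ fun U => ?_
  rw [AddCommGrpCat.mono_iff_injective, injective_iff_map_eq_zero]
  intro s hs
  have h : (show Γ(X, U.unop) from s) ^ p = 0 := by
    rw [← FrobSch.frob_app]
    exact hs
  exact IsNilpotent.eq_zero (x := (show Γ(X, U.unop) from s)) ⟨p, h⟩

theorem shortExact (X : Scheme.{u}) (p : ℕ) [Fact p.Prime] [FrobSch.IsCharP X p] [IsReduced X] :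
    (seq X p).ShortExact :=
  haveI := mono_unit X p
  { exact := ShortComplex.exact_cokernel _, mono_f := ‹_›, epi_g := inferInstance }

theorem add_pow_eq {R : Type u} [CommRing R] {p : ℕ} [Fact p.Prime] (hp : (p : R) = 0) (x y : R) :
    (x + y) ^ p = x ^ p + y ^ p := by
  obtain ⟨r, hr⟩ := exists_add_pow_prime_eq (Fact.out : p.Prime) x y
  rw [hr, hp]; ring

theorem nsmul_pow_eq {R : Type u} [CommRing R] {p : ℕ} [Fact p.Prime] (hp : (p : R) = 0) (x : R)
    (n : ℕ) : (n • x) ^ p = n • x ^ p := by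
  induction n with
  | zero => simp [zero_pow (Fact.out : p.Prime).ne_zero]
  | succ n ih => rw [succ_nsmul, succ_nsmul, add_pow_eq hp, ih]

variable {X Y : Scheme.{u}} (f : Y ⟶ X) (p : ℕ) [Fact p.Prime]
  [FrobSch.IsCharP X p] [FrobSch.IsCharP Y p]

theorem bijective_descend (hp : p ≠ 2) [IsFinite f] [Flat f] [LocallyOfFinitePresentation f]
    (hrk : ∀ x, f.finrank x = 2)
    (hY : ∀ n, Function.Bijective
      (Sheaf.H.map (Curves.LES.toAbMap (ClSub.unitToPush (FrobSch.frob Y p))) n))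
    (n : ℕ) : Function.Bijective
      (Sheaf.H.map (Curves.LES.toAbMap (ClSub.unitToPush (FrobSch.frob X p))) n) := by
  classical
  obtain ⟨m, hm⟩ : ∃ m, m * 2 = p + 1 :=
    ⟨(p + 1) / 2, Nat.div_mul_cancel (by
      have := (Fact.out : p.Prime).eq_two_or_odd'.resolve_left hp
      exact (Odd.add_one this).two_dvd)⟩
  have hu2 : IsUnit (2 : Γ(X, ⊤)) := by
    refine IsUnit.of_mul_eq_one (b := (m : Γ(X, ⊤))) ?_
    have := congrArg (fun t : ℕ => (t : Γ(X, ⊤))) hm
    simp only [Nat.cast_mul, Nat.cast_ofNat, Nat.cast_add, Nat.cast_one,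
      FrobSch.natCast_eq_zero_app X p ⊤, zero_add] at this
    rw [mul_comm]; exact this
  obtain ⟨σ, hσf, hσσ, hq⟩ := DblCovInv.Scheme'.exists_involution f hrk hu2
  have hle : ∀ U : X.Opens, f ⁻¹ᵁ U ≤ σ.hom ⁻¹ᵁ (f ⁻¹ᵁ U) := fun U y hy => by
    show f (σ.hom y) ∈ U
    rw [← Scheme.Hom.comp_apply, hσf]; exact hy
  let sg : ∀ U : X.Opens, Γ(Y, f ⁻¹ᵁ U) →+* Γ(Y, f ⁻¹ᵁ U) := fun U =>
    (σ.hom.appLE (f ⁻¹ᵁ U) (f ⁻¹ᵁ U) (hle U)).hom
  have aux : ∀ (g : Y ⟶ Y), g = 𝟙 Y → ∀ (V : Y.Opens) (le : V ≤ g ⁻¹ᵁ V),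
      g.appLE V V le = 𝟙 _ := by
    rintro g rfl V le
    rw [Scheme.Hom.appLE, Scheme.Hom.id_app]
    exact (Category.id_comp _).trans (Y.presheaf.map_id _)
  have hinvol : ∀ U s, sg U (sg U s) = s := fun U s => by
    have e1 : σ.hom ≫ σ.hom = 𝟙 Y := congrArg Iso.hom hσσ
    have e3 : σ.hom.appLE (f ⁻¹ᵁ U) (f ⁻¹ᵁ U) (hle U) ≫ σ.hom.appLE (f ⁻¹ᵁ U) (f ⁻¹ᵁ U) (hle U) =
        𝟙 _ := by
      rw [Scheme.Hom.appLE_comp_appLE]
      exact aux _ e1 _ _
    exact ConcreteCategory.congr_hom e3 s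
  have hfix : ∀ U s, sg U s = s → s ∈ Set.range (f.app U).hom := by
    intro U s hs
    rw [hq.range_iff U s]
    rintro ⟨g, hg⟩
    obtain ⟨i, rfl⟩ := hg
    rcases Int.even_or_odd i with ⟨t, rfl⟩ | ⟨t, rfl⟩
    · have e : σ ^ (t + t) = 1 := by rw [← two_mul, zpow_mul, zpow_two, hσσ, one_zpow]
      simp only [Subgroup.coe_subtype, e]
      exact ConcreteCategory.congr_hom (aux (1 : Aut Y).hom rfl (f ⁻¹ᵁ U) fun _ h => h) s
    · have e : σ ^ (2 * t + 1) = σ := by
        rw [zpow_add, zpow_mul, zpow_two, hσσ, one_zpow, zpow_one, one_mul]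
      simp only [Subgroup.coe_subtype, e]
      exact hs
  have hinj := hq.injective
  have hT : ∀ (U : X.Opens) (s : Γ(Y, f ⁻¹ᵁ U)), ∃ a : Γ(X, U),
      (f.app U).hom a = m • s + m • sg U s := fun U s => by
    refine hfix U _ ?_
    rw [map_add, map_nsmul, map_nsmul, hinvol, add_comm]
  choose T hT using hT
  have hu : ∀ (U : X.Opens) (a : Γ(X, U)), sg U ((f.app U).hom a) = (f.app U).hom a := fun U a =>
    (hq.range_iff U _).mp ⟨a, rfl⟩ ⟨σ, Subgroup.mem_zpowers σ⟩
  have hTu : ∀ (U : X.Opens) (a : Γ(X, U)), T U ((f.app U).hom a) = a := fun U a => by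
    refine hinj U ?_
    rw [hT, hu, ← add_nsmul, ← mul_two, hm, add_nsmul, one_nsmul, nsmul_eq_mul,
      FrobSch.natCast_eq_zero_app Y p, zero_mul, zero_add]
  have hTp : ∀ (U : X.Opens) (s : Γ(Y, f ⁻¹ᵁ U)), T U (s ^ p) = T U s ^ p := fun U s => by
    refine hinj U ?_
    rw [map_pow, hT, hT, map_pow, add_pow_eq (FrobSch.natCast_eq_zero_app Y p _),
      nsmul_pow_eq (FrobSch.natCast_eq_zero_app Y p _),
      nsmul_pow_eq (FrobSch.natCast_eq_zero_app Y p _)]
  have hTadd : ∀ (U : X.Opens) (s t : Γ(Y, f ⁻¹ᵁ U)), T U (s + t) = T U s + T U t := fun U s t => by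
    refine hinj U ?_
    rw [map_add, hT, hT, hT, map_add, nsmul_add, nsmul_add]
    abel
  have hTnat : ∀ (U V : X.Opens) (h : V ≤ U) (s : Γ(Y, f ⁻¹ᵁ U)),
      T V ((Y.presheaf.map (homOfLE (fun y hy => h hy : f ⁻¹ᵁ V ≤ f ⁻¹ᵁ U)).op).hom s) =
        (X.presheaf.map (homOfLE h).op).hom (T U s) := fun U V h s => by
    refine hinj V ?_
    have hn := ConcreteCategory.congr_hom (f.naturality (homOfLE h).op) (T U s)
    refine (hT V _).trans (Eq.trans ?_ hn.symm)
    show _ = (Y.presheaf.map (homOfLE _).op).hom ((f.app U).hom (T U s))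
    rw [hT, map_add, map_nsmul, map_nsmul]
    congr 2
    have e4 : σ.hom.appLE (f ⁻¹ᵁ U) (f ⁻¹ᵁ U) (hle U) ≫
        Y.presheaf.map (homOfLE (fun y hy => h hy : f ⁻¹ᵁ V ≤ f ⁻¹ᵁ U)).op =
        Y.presheaf.map (homOfLE (fun y hy => h hy : f ⁻¹ᵁ V ≤ f ⁻¹ᵁ U)).op ≫
          σ.hom.appLE (f ⁻¹ᵁ V) (f ⁻¹ᵁ V) (hle V) := by
      rw [Scheme.Hom.appLE_map, Scheme.Hom.map_appLE]
    exact (ConcreteCategory.congr_hom e4 s).symm
  -- the maps of abelian sheaves
  let OX := Coh.toAb (Coh.structureModule X)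
  let OY := Coh.toAb (Coh.structureModule Y)
  let FX := Coh.toAb ((Scheme.Modules.pushforward (FrobSch.frob X p)).obj (Coh.structureModule X))
  let FY := Coh.toAb ((Scheme.Modules.pushforward (FrobSch.frob Y p)).obj (Coh.structureModule Y))
  let P := CohTop.push f.base
  let u₁ : OX ⟶ P.obj OY :=
    ⟨{ app := fun U => AddCommGrpCat.ofHom
        (show Γ(X, U.unop) →+ Γ(Y, f ⁻¹ᵁ U.unop) from (f.app U.unop).hom.toAddMonoidHom)
       naturality := fun U V i => by
        ext s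
        exact ConcreteCategory.congr_hom (f.naturality i) s }⟩
  let u₂ : FX ⟶ P.obj FY :=
    ⟨{ app := fun U => AddCommGrpCat.ofHom
        (show Γ(X, U.unop) →+ Γ(Y, f ⁻¹ᵁ U.unop) from (f.app U.unop).hom.toAddMonoidHom)
       naturality := fun U V i => by
        ext s
        exact ConcreteCategory.congr_hom (f.naturality i) s }⟩
  let r₁ : P.obj OY ⟶ OX :=
    ⟨{ app := fun U => AddCommGrpCat.ofHom
        (show Γ(Y, f ⁻¹ᵁ U.unop) →+ Γ(X, U.unop) from AddMonoidHom.mk' (T U.unop) (hTadd U.unop))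
       naturality := fun U V i => by
        ext s
        exact hTnat U.unop V.unop (leOfHom i.unop) s }⟩
  let r₂ : P.obj FY ⟶ FX :=
    ⟨{ app := fun U => AddCommGrpCat.ofHom
        (show Γ(Y, f ⁻¹ᵁ U.unop) →+ Γ(X, U.unop) from AddMonoidHom.mk' (T U.unop) (hTadd U.unop))
       naturality := fun U V i => by
        ext s
        exact hTnat U.unop V.unop (leOfHom i.unop) s }⟩
  let φX := Curves.LES.toAbMap (ClSub.unitToPush (FrobSch.frob X p))
  let φY := Curves.LES.toAbMap (ClSub.unitToPush (FrobSch.frob Y p))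
  have c1 : u₁ ≫ P.map φY = φX ≫ u₂ := by
    ext U s
    exact (map_pow (f.app U.unop).hom (show Γ(X, U.unop) from s) p).symm
  have c2 : r₁ ≫ φX = P.map φY ≫ r₂ := by
    ext U s
    exact (hTp U.unop s).symm
  have e1 : u₁ ≫ r₁ = 𝟙 OX := by
    ext U s
    exact hTu U.unop s
  have e2 : u₂ ≫ r₂ = 𝟙 FX := by
    ext U s
    exact hTu U.unop s
  -- the direct image
  have hbO : Function.Bijective (ZarCoh.PushH.pushH f.base OY n) := by
    have := TensorMod.QCohInv.isQCoh_structureModule Y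
    exact (ZarCoh.Morph.affineEquiv f (Coh.structureModule Y) n).bijective
  have hbF : Function.Bijective (ZarCoh.PushH.pushH f.base FY n) := by
    have := TensorMod.QCohInv.isQCoh_structureModule Y
    have : IsAffineHom (FrobSch.frob Y p) := ⟨fun U hU => by rwa [FrobSch.frob_preimage]⟩
    have := QCoh.Pushforward.isQCoh_pushforward (FrobSch.frob Y p) (M := Coh.structureModule Y)
    exact (ZarCoh.Morph.affineEquiv f
      ((Scheme.Modules.pushforward (FrobSch.frob Y p)).obj (Coh.structureModule Y)) n).bijective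
  have hmid : Function.Bijective (Sheaf.H.map (P.map φY) n) := by
    have hcomp : ZarCoh.PushH.pushH f.base FY n ∘ Sheaf.H.map (P.map φY) n =
        Sheaf.H.map φY n ∘ ZarCoh.PushH.pushH f.base OY n :=
      funext fun x => ZarCoh.PushH.pushH_natural f.base φY n x
    exact (Function.Bijective.of_comp_iff' hbF _).mp (hcomp ▸ (hY n).comp hbO)
  refine ⟨fun x y hxy => ?_, fun z => ?_⟩
  · have key : ∀ w, Sheaf.H.map (P.map φY) n (Sheaf.H.map u₁ n w) =
        Sheaf.H.map u₂ n (Sheaf.H.map φX n w) := fun w => by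
      rw [← Sheaf.H.map_comp_apply, ← Sheaf.H.map_comp_apply, c1]
    have h1 := hmid.1 ((key x).trans ((congrArg (Sheaf.H.map u₂ n) hxy).trans (key y).symm))
    have h2 := congrArg (Sheaf.H.map r₁ n) h1
    rwa [← Sheaf.H.map_comp_apply, ← Sheaf.H.map_comp_apply, e1, Sheaf.H.map_id_apply,
      Sheaf.H.map_id_apply] at h2
  · obtain ⟨w, hw⟩ := hmid.2 (Sheaf.H.map u₂ n z)
    refine ⟨Sheaf.H.map r₁ n w, ?_⟩
    show Sheaf.H.map φX n _ = z
    rw [← Sheaf.H.map_comp_apply, c2, Sheaf.H.map_comp_apply, hw, ← Sheaf.H.map_comp_apply, e2,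
      Sheaf.H.map_id_apply]

end Groth.Agent.Lib.FrobCover.Double
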